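import Groth.Agent.UnitDegLib.Main
import Groth.Agent.CommAlgDim.GlobalDim
import Groth.Agent.CommAlgDim.LocPD
import Mathlib.RingTheory.AdjoinRoot
import Mathlib.Algebra.Polynomial.Laurent
import Mathlib.RingTheory.RegularLocalRing.Polynomial

/-!
Adjoining an `N`-th root of a degree `N` unit of a regular graded ring.
-/

set_option autoImplicit false
set_option maxHeartbeats 800000
set_option linter.style.haveILetI false
universe u
open DirectSum Polynomial LaurentPolynomial

namespace Groth.Agent.UnitDegLib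

variable {R : Type u} [CommRing R] (𝒜 : ℤ → AddSubgroup R) [GradedRing 𝒜]

theorem hmin_of_hm [IsLocalRing (GrLC.deg0 𝒜)] (N : ℕ) (t : R) (ht : t ∈ 𝒜 (N : ℤ)) (htu : IsUnit t)
    (hm : ∀ (i j : ℤ), 0 < i → 0 < j → i + j = (N : ℤ) → ∀ a ∈ 𝒜 i, ∀ b ∈ 𝒜 j,
      ∃ c : GrLC.deg0 𝒜, c ∈ IsLocalRing.maximalIdeal (GrLC.deg0 𝒜) ∧ a * b = (c : R) * t) :
    ∀ (n : ℤ), 0 < n → n < (N : ℤ) → ∀ s ∈ 𝒜 n, ¬ IsUnit s := by
  intro n hn hnN s hs hsu
  obtain ⟨σ, hσ, hσ0, hσ1, hσadd⟩ := exists_graded_zpow 𝒜 hs hsu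
  have hb : σ (-1) * t ∈ 𝒜 ((N : ℤ) - n) := by
    have := SetLike.mul_mem_graded (hσ (-1)) ht
    rwa [show n * -1 + (N : ℤ) = (N : ℤ) - n by ring] at this
  obtain ⟨c, hc, heq⟩ := hm n (N - n) hn (by omega) (by ring) s hs _ hb
  have h1 : s * σ (-1) = 1 := by
    have h := hσadd 1 (-1)
    rw [hσ1, add_neg_cancel, hσ0] at h
    exact h.symm
  rw [← mul_assoc, h1] at heq
  have hc1 : (c : R) = 1 := (htu.mul_left_inj.mp heq).symm
  rw [IsLocalRing.mem_maximalIdeal, mem_nonunits_iff] at hc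
  exact hc (by rw [show c = 1 from Subtype.ext hc1]; exact isUnit_one)

theorem key_adjoinRoot [IsNoetherianRing R] [IsLocalRing (GrLC.deg0 𝒜)]
    (hreg : ∀ (p : Ideal R) [p.IsPrime], IsRegularLocalRing (Localization.AtPrime p))
    (N : ℕ) (hN : 0 < N) (t : R) (ht : t ∈ 𝒜 (N : ℤ)) (htu : IsUnit t)
    (hmin : ∀ (n : ℤ), 0 < n → n < (N : ℤ) → ∀ s ∈ 𝒜 n, ¬ IsUnit s) :
    IsRegularRing (AdjoinRoot (Polynomial.X ^ N - Polynomial.C t)) := by
  classical
  haveI := key 𝒜 hreg N hN t ht htu hmin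
  set A := R ⧸ Ideal.span {t - 1}
  haveI : IsRegularRing A := CommAlgDim.isRegularRing_of_isRegularLocalRing A
  set π := Ideal.Quotient.mk (Ideal.span {t - 1}) with hπ
  have hπt : π t = 1 := by
    rw [← map_one π, hπ]; exact Ideal.Quotient.eq.mpr (Ideal.mem_span_singleton_self _)
  set F := Polynomial.X ^ N - Polynomial.C t with hF
  set x := AdjoinRoot.root F with hx
  have hxN : x ^ N = AdjoinRoot.of F t := by
    have h := AdjoinRoot.eval₂_root F
    rw [hF, eval₂_sub, eval₂_X_pow, Polynomial.eval₂_C, sub_eq_zero] at h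
    exact h
  have hxu : IsUnit x := (isUnit_pow_iff hN.ne').mp (hxN ▸ htu.map _)
  obtain ⟨xu, hxu⟩ := hxu
  -- the map to Laurent polynomials
  let g : ∀ n : ℤ, 𝒜 n →+ A[T;T⁻¹] := fun n =>
    { toFun := fun r => LaurentPolynomial.C (π r) * T n
      map_zero' := by simp
      map_add' := fun a b => by simp [add_mul] }
  let gs := DirectSum.toSemiring g
    (by simp [g, SetLike.coe_gOne])
    (fun {i j} a b => by
      simp only [g, AddMonoidHom.coe_mk, ZeroHom.coe_mk, SetLike.coe_gMul, map_mul, T_add]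
      ring)
  let g' : R →+* A[T;T⁻¹] := gs.comp (decomposeRingEquiv 𝒜).toRingHom
  have hg' : ∀ {n : ℤ} (r : 𝒜 n), g' (r : R) = LaurentPolynomial.C (π r) * T n := by
    intro n r
    show gs (decompose 𝒜 (r : R)) = _
    rw [decompose_coe]
    exact DirectSum.toSemiring_of _ _ _ _ _
  let Φ : AdjoinRoot F →+* A[T;T⁻¹] := AdjoinRoot.lift g' (T 1) (by
    rw [hF, eval₂_sub, eval₂_X_pow, Polynomial.eval₂_C, sub_eq_zero,
      show g' t = _ from hg' (⟨t, ht⟩ : 𝒜 (N : ℤ)), hπt, map_one, one_mul, T_pow, mul_one])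
  have hΦx : ∀ j : ℤ, Φ ((xu ^ j : (AdjoinRoot F)ˣ) : AdjoinRoot F) = T j := by
    intro j
    induction j using Int.induction_on with
    | zero => simp
    | succ i ih =>
      rw [zpow_add, zpow_one, Units.val_mul, map_mul, ih, hxu, AdjoinRoot.lift_root, ← T_add]
    | pred i ih =>
      have h : Φ ((xu ^ (-(i : ℤ) - 1) : (AdjoinRoot F)ˣ) : AdjoinRoot F) * T 1 = T (-(i : ℤ)) := by
        rw [← ih, show (T 1 : A[T;T⁻¹]) = Φ x from (AdjoinRoot.lift_root (f := F) _).symm, ← map_mul, ← hxu,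
          ← Units.val_mul, ← zpow_add_one, sub_add_cancel]
      calc Φ ((xu ^ (-(i : ℤ) - 1) : (AdjoinRoot F)ˣ) : AdjoinRoot F)
          = Φ ((xu ^ (-(i : ℤ) - 1) : (AdjoinRoot F)ˣ) : AdjoinRoot F) * T 1 * T (-1) := by
            rw [mul_assoc, ← T_add, add_neg_cancel, T_zero, mul_one]
        _ = T (-(i : ℤ) - 1) := by rw [h, ← T_add]; congr 1
  -- the inverse on degree zero
  let h0 : ∀ n : ℤ, 𝒜 n →+ AdjoinRoot F := fun n =>
    { toFun := fun r => AdjoinRoot.of F r * ((xu ^ (-n) : (AdjoinRoot F)ˣ) : AdjoinRoot F)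
      map_zero' := by simp
      map_add' := fun a b => by simp [add_mul] }
  let hs := DirectSum.toSemiring h0
    (by simp [h0, SetLike.coe_gOne])
    (fun {i j} a b => by
      simp only [h0, AddMonoidHom.coe_mk, ZeroHom.coe_mk, SetLike.coe_gMul, map_mul,
        neg_add, zpow_add, Units.val_mul]
      ring)
  let h' : R →+* AdjoinRoot F := hs.comp (decomposeRingEquiv 𝒜).toRingHom
  have hh' : ∀ {n : ℤ} (r : 𝒜 n), h' (r : R) =
      AdjoinRoot.of F r * ((xu ^ (-n) : (AdjoinRoot F)ˣ) : AdjoinRoot F) := by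
    intro n r
    show hs (decompose 𝒜 (r : R)) = _
    rw [decompose_coe]
    exact DirectSum.toSemiring_of _ _ _ _ _
  let hA : A →+* AdjoinRoot F := Ideal.Quotient.lift _ h' (by
    intro a ha
    obtain ⟨c, rfl⟩ := Ideal.mem_span_singleton'.mp ha
    rw [map_mul, map_sub, map_one, show h' t = _ from hh' (⟨t, ht⟩ : 𝒜 (N : ℤ)),
      show AdjoinRoot.of F t = x ^ N from hxN.symm, ← hxu, ← Units.val_pow_eq_pow_val, ← Units.val_mul,
      ← zpow_natCast, ← zpow_add, add_neg_cancel, zpow_zero, Units.val_one, sub_self, mul_zero])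
  let Ψ : A[T;T⁻¹] →+* AdjoinRoot F := LaurentPolynomial.eval₂ hA xu
  have hΨΦ : Ψ.comp Φ = RingHom.id _ := by
    refine AdjoinRoot.ringHom_ext ?_ ?_
    · refine RingHom.ext fun r => ?_
      induction r using DirectSum.Decomposition.inductionOn 𝒜 with
      | zero => simp
      | @homogeneous n r =>
        simp only [RingHom.comp_apply, RingHom.id_apply, Φ, AdjoinRoot.lift_of, hg', Ψ,
          LaurentPolynomial.eval₂_C_mul_T]
        show h' (r : R) * _ = _
        rw [hh', mul_assoc, ← Units.val_mul, ← zpow_add, neg_add_cancel, zpow_zero, Units.val_one, mul_one]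
      | add a b ha hb => simp only [RingHom.comp_apply] at ha hb ⊢; simp [map_add, ha, hb]
    · simp only [RingHom.comp_apply, RingHom.id_apply, Φ, AdjoinRoot.lift_root, Ψ,
        LaurentPolynomial.eval₂_T, zpow_one, hxu, hx]
  have hbij : Function.Bijective Φ := by
    refine ⟨fun a b hab => ?_, fun p => ?_⟩
    · have := congrArg Ψ hab
      rwa [← RingHom.comp_apply, ← RingHom.comp_apply, hΨΦ] at this
    · induction p using LaurentPolynomial.induction_on' with
      | add p q hp hq =>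
        obtain ⟨a, rfl⟩ := hp
        obtain ⟨b, rfl⟩ := hq
        exact ⟨a + b, map_add _ _ _⟩
      | C_mul_T n a =>
        obtain ⟨r, rfl⟩ := Ideal.Quotient.mk_surjective a
        induction r using DirectSum.Decomposition.inductionOn 𝒜 with
        | zero => exact ⟨0, by simp⟩
        | @homogeneous m r =>
          refine ⟨AdjoinRoot.of F (r : R) * ((xu ^ (-m) : (AdjoinRoot F)ˣ) : AdjoinRoot F) *
            ((xu ^ n : (AdjoinRoot F)ˣ) : AdjoinRoot F), ?_⟩
          rw [map_mul, map_mul, hΦx, hΦx, show Φ (AdjoinRoot.of F (r : R)) = g' r from AdjoinRoot.lift_of _,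
            hg', mul_assoc (LaurentPolynomial.C _) (T m), ← T_add, add_neg_cancel, T_zero, mul_one]
        | add a b ha hb =>
          obtain ⟨ca, hca⟩ := ha
          obtain ⟨cb, hcb⟩ := hb
          exact ⟨ca + cb, by rw [map_add, hca, hcb, map_add, map_add, add_mul]⟩
  haveI : IsRegularRing (Localization.Away (Polynomial.X : A[X])) :=
    CommAlgDim.isRegularRing_localization _
  haveI : IsRegularRing A[T;T⁻¹] := IsRegularRing.of_ringEquiv
    (IsLocalization.algEquiv (Submonoid.powers (Polynomial.X : A[X]))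
      (Localization.Away (Polynomial.X : A[X])) A[T;T⁻¹]).toRingEquiv
  exact IsRegularRing.of_ringEquiv (RingEquiv.ofBijective Φ hbij).symm

end Groth.Agent.UnitDegLib
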