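import Groth.Agent.CommAlgDim.Regular
import Groth.Prelude.Def_GrLC
import Mathlib.RingTheory.DualNumber
import Mathlib.RingTheory.Ideal.GoingUp

/-!
Setting a homogeneous unit of minimal degree equal to one in a regular graded ring.
-/

set_option autoImplicit false
set_option maxHeartbeats 800000
set_option linter.style.haveILetI false
set_option linter.unusedSectionVars false
universe u
open DirectSum

namespace Groth.Agent.UnitDegLib

variable {R : Type u} [CommRing R] (𝒜 : ℤ → AddSubgroup R) [GradedRing 𝒜]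

theorem exists_graded_zpow {N : ℤ} {t : R} (ht : t ∈ 𝒜 N) (htu : IsUnit t) :
    ∃ τ : ℤ → R, (∀ j, τ j ∈ 𝒜 (N * j)) ∧ τ 0 = 1 ∧ τ 1 = t ∧ (∀ i j, τ (i + j) = τ i * τ j) := by
  obtain ⟨w, rfl⟩ := htu
  set s : R := (decompose 𝒜 ((w⁻¹ : Rˣ) : R) (-N) : R) with hs_def
  have hs : s ∈ 𝒜 (-N) := SetLike.coe_mem _
  have hts : (w : R) * s = 1 := by
    have h := coe_decompose_mul_add_of_left_mem 𝒜 ht (b := ((w⁻¹ : Rˣ) : R)) (j := -N)
    rw [add_neg_cancel, Units.mul_inv, decompose_one] at h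
    rw [hs_def, ← h]
    rfl
  have hsw : s = ((w⁻¹ : Rˣ) : R) := by
    rw [← one_mul s, ← Units.inv_mul w, mul_assoc, hts, mul_one]
  refine ⟨fun j => ((w ^ j : Rˣ) : R), fun j => ?_, by simp, by simp,
    fun i j => by simp [zpow_add]⟩
  show ((w ^ j : Rˣ) : R) ∈ 𝒜 (N * j)
  rcases Int.eq_nat_or_neg j with ⟨n, rfl | rfl⟩
  · rw [zpow_natCast, Units.val_pow_eq_pow_val, mul_comm, ← nsmul_eq_mul]
    exact SetLike.pow_mem_graded n ht
  · rw [zpow_neg, ← inv_zpow, zpow_natCast, Units.val_pow_eq_pow_val, ← hsw, mul_neg, ← neg_mul,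
      mul_comm, ← nsmul_eq_mul]
    exact SetLike.pow_mem_graded n hs

variable [IsLocalRing (GrLC.deg0 𝒜)]

local notation "k₀" => IsLocalRing.ResidueField (GrLC.deg0 𝒜)

theorem key [IsNoetherianRing R]
    (hreg : ∀ (p : Ideal R) [p.IsPrime], IsRegularLocalRing (Localization.AtPrime p))
    (N : ℕ) (hN : 0 < N) (t : R) (ht : t ∈ 𝒜 (N : ℤ)) (htu : IsUnit t)
    (hmin : ∀ (n : ℤ), 0 < n → n < (N : ℤ) → ∀ s ∈ 𝒜 n, ¬ IsUnit s) :
    IsRegularLocalRing (R ⧸ Ideal.span {t - 1}) := by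
  classical
  obtain ⟨τ, hτ, hτ0, hτ1, hτadd⟩ := exists_graded_zpow 𝒜 ht htu
  have hN' : (N : ℤ) ≠ 0 := by omega
  have hnonunit : ∀ {n : ℤ}, ¬ (N : ℤ) ∣ n → ∀ r ∈ 𝒜 n, ¬ IsUnit r := by
    intro n hn r hr hu
    have hu' : IsUnit (r * τ (-(n / N))) := hu.mul (IsUnit.of_mul_eq_one (τ (n / N))
      (by rw [← hτadd, neg_add_cancel, hτ0]))
    have hmem : r * τ (-(n / N)) ∈ 𝒜 (n % N) := by
      have := SetLike.mul_mem_graded hr (hτ (-(n / N)))
      rwa [show n + (N : ℤ) * -(n / N) = n % N by rw [Int.emod_def]; ring] at this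
    refine hmin (n % N) ?_ (Int.emod_lt_of_pos n (by omega)) _ hmem hu'
    exact lt_of_le_of_ne (Int.emod_nonneg n hN') (fun h => hn (Int.dvd_of_emod_eq_zero h.symm))
  have hcmem : ∀ {n j : ℤ}, (N : ℤ) * j = n → ∀ r ∈ 𝒜 n, r * τ (-j) ∈ GrLC.deg0 𝒜 := by
    intro n j hj r hr
    have := SetLike.mul_mem_graded hr (hτ (-j))
    rw [← hj, show (N : ℤ) * j + (N : ℤ) * -j = 0 by ring] at this
    exact this
  let f : ∀ n : ℤ, 𝒜 n →+ DualNumber k₀ := fun n =>
    if h : (N : ℤ) ∣ n then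
      { toFun := fun r => TrivSqZeroExt.inl
          (IsLocalRing.residue _ ⟨(r : R) * τ (-(n / N)), hcmem (Int.mul_ediv_cancel' h) r r.2⟩) *
            (1 + ((n / N : ℤ) : DualNumber k₀) * DualNumber.eps)
        map_zero' := by
          rw [show (⟨((0 : 𝒜 n) : R) * τ (-(n / N)), hcmem (Int.mul_ediv_cancel' h) _ (0 : 𝒜 n).2⟩ : GrLC.deg0 𝒜) = 0
            from Subtype.ext (by simp), map_zero, TrivSqZeroExt.inl_zero, zero_mul]
        map_add' := fun a b => by
          rw [show (⟨((a + b : 𝒜 n) : R) * τ (-(n / N)), hcmem (Int.mul_ediv_cancel' h) _ (a + b).2⟩ : GrLC.deg0 𝒜) =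
            ⟨(a : R) * τ (-(n / N)), hcmem (Int.mul_ediv_cancel' h) a a.2⟩ +
            ⟨(b : R) * τ (-(n / N)), hcmem (Int.mul_ediv_cancel' h) b b.2⟩ from Subtype.ext (by simp [add_mul]),
            map_add, TrivSqZeroExt.inl_add, add_mul] }
    else 0
  have hf : ∀ {n j : ℤ} (hj : (N : ℤ) * j = n) (r : 𝒜 n), f n r =
      TrivSqZeroExt.inl (IsLocalRing.residue _ ⟨(r : R) * τ (-j), hcmem hj r r.2⟩) *
        (1 + (j : DualNumber k₀) * DualNumber.eps) := by
    intro n j hj r
    have hdiv : (N : ℤ) ∣ n := ⟨j, hj.symm⟩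
    have hjn : n / N = j := by rw [← hj, Int.mul_ediv_cancel_left _ hN']
    subst hjn
    simp only [f, dif_pos hdiv]
    rfl
  have hf0 : ∀ {n : ℤ}, ¬ (N : ℤ) ∣ n → ∀ r : 𝒜 n, f n r = 0 := by
    intro n hn r; simp only [f, dif_neg hn]; rfl
  have heps : ∀ i j : ℤ, (1 + (i : DualNumber k₀) * DualNumber.eps) * (1 + (j : DualNumber k₀) * DualNumber.eps) =
      1 + ((i + j : ℤ) : DualNumber k₀) * DualNumber.eps := by
    intro i j
    have h2 : (DualNumber.eps : DualNumber k₀) * DualNumber.eps = 0 := DualNumber.eps_mul_eps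
    push_cast
    linear_combination ((i : DualNumber k₀) * j) * h2
  have hone : f _ (GradedMonoid.GOne.one (A := fun i => 𝒜 i)) = 1 := by
    rw [hf (j := 0) (mul_zero _)]
    have : (⟨((GradedMonoid.GOne.one (A := fun i => 𝒜 i) : 𝒜 0) : R) * τ (-0), hcmem (mul_zero _) _ (GradedMonoid.GOne.one (A := fun i => 𝒜 i)).2⟩ :
        GrLC.deg0 𝒜) = 1 := Subtype.ext (by simp [SetLike.coe_gOne, hτ0])
    rw [this, map_one, TrivSqZeroExt.inl_one, one_mul]
    simp
  have hmul : ∀ {a b : ℤ} (x : 𝒜 a) (y : 𝒜 b), f _ (GradedMonoid.GMul.mul (A := fun i => 𝒜 i) x y) = f _ x * f _ y := by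
    intro a b x y
    by_cases ha : (N : ℤ) ∣ a
    · by_cases hb : (N : ℤ) ∣ b
      · obtain ⟨i, rfl⟩ := ha
        obtain ⟨j, rfl⟩ := hb
        rw [hf (j := i + j) (mul_add _ _ _), hf (j := i) rfl, hf (j := j) rfl, mul_mul_mul_comm, heps]
        congr 1
        rw [← TrivSqZeroExt.inl_mul, ← map_mul]
        congr 2
        refine Subtype.ext ?_
        show ((x : R) * y) * τ (-(i + j)) = ((x : R) * τ (-i)) * ((y : R) * τ (-j))
        rw [neg_add, hτadd]; ring
      · have : ¬ (N : ℤ) ∣ a + b := fun h => hb ((dvd_add_right ha).mp h)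
        rw [hf0 this, hf0 hb, mul_zero]
    · rw [hf0 ha, zero_mul]
      by_cases hab : (N : ℤ) ∣ a + b
      · obtain ⟨j, hj⟩ := hab
        rw [hf hj.symm, (IsLocalRing.residue_eq_zero_iff _).mpr, TrivSqZeroExt.inl_zero, zero_mul]
        rw [IsLocalRing.mem_maximalIdeal, mem_nonunits_iff]
        intro hu
        have hu' : IsUnit (((x : R) * y) * τ (-j)) := hu.map (GrLC.deg0 𝒜).subtype
        exact hnonunit ha x x.2 (isUnit_of_mul_isUnit_left (isUnit_of_mul_isUnit_left hu'))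
      · rw [hf0 hab]
  let ψ : R →+* DualNumber k₀ :=
    (DirectSum.toSemiring f hone hmul).comp (decomposeRingEquiv 𝒜).toRingHom
  have hψ : ∀ {n : ℤ} (r : 𝒜 n), ψ (r : R) = f n r := by
    intro n r
    show DirectSum.toSemiring f hone hmul (decompose 𝒜 (r : R)) = _
    rw [decompose_coe, DirectSum.toSemiring_of]
  have hψt : ψ (t - 1) = DualNumber.eps := by
    rw [map_sub, map_one, show t = ((⟨t, ht⟩ : 𝒜 (N : ℤ)) : R) from rfl, hψ,
      hf (j := 1) (mul_one _)]
    have : (⟨t * τ (-1), hcmem (mul_one _) t ht⟩ : GrLC.deg0 𝒜) = 1 :=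
      Subtype.ext (by
        show t * τ (-1) = 1
        have h' := hτadd 1 (-1)
        rw [hτ1] at h'
        rw [← h']; simpa using hτ0)
    simp [this]
  let fst : DualNumber k₀ →+* k₀ := (TrivSqZeroExt.fstHom k₀ k₀ k₀).toRingHom
  set P := RingHom.ker (fst.comp ψ) with hP
  have hfstf : ∀ {n j : ℤ} (hj : (N : ℤ) * j = n) (r : 𝒜 n), fst (f n r) =
      IsLocalRing.residue _ ⟨(r : R) * τ (-j), hcmem hj r r.2⟩ := by
    intro n j hj r
    rw [hf hj, map_mul]
    simp [fst]
  have hsurj : Function.Surjective (fst.comp ψ) := by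
    intro z
    obtain ⟨⟨c, hc⟩, rfl⟩ := IsLocalRing.residue_surjective z
    refine ⟨c, ?_⟩
    have h := hψ (⟨c, hc⟩ : 𝒜 0)
    rw [RingHom.comp_apply, h, hfstf (j := 0) (mul_zero _)]
    congr 1
    exact Subtype.ext (by simp [hτ0])
  haveI hPmax : P.IsMaximal := RingHom.ker_isMaximal_of_surjective _ hsurj
  have htP : t - 1 ∈ P := by
    rw [hP, RingHom.mem_ker, RingHom.comp_apply, hψt]
    simp [fst]
  have hPsq : P ^ 2 ≤ RingHom.ker ψ := by
    rw [pow_two, Ideal.mul_le]
    intro a ha b hb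
    rw [hP, RingHom.mem_ker, RingHom.comp_apply] at ha hb
    rw [RingHom.mem_ker, map_mul]
    refine TrivSqZeroExt.ext ?_ ?_
    · change (ψ a).fst * (ψ b).fst = 0
      rw [show (ψ a).fst = 0 from ha, zero_mul]
    · rw [DualNumber.snd_mul, show (ψ a).fst = 0 from ha, show (ψ b).fst = 0 from hb, zero_mul,
        mul_zero, add_zero]
      rfl
  -- the only maximal ideal through `t - 1`
  have honly : ∀ Q : Ideal R, Q.IsMaximal → t - 1 ∈ Q → Q = P := by
    intro Q hQ htQ
    haveI := hQ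
    have hτQ : ∀ j, τ j - 1 ∈ Q := by
      intro j
      have hone' : Ideal.Quotient.mk Q t = 1 := by
        rw [← map_one (Ideal.Quotient.mk Q)]; exact Ideal.Quotient.eq.mpr htQ
      rw [← Ideal.Quotient.eq_zero_iff_mem, map_sub, map_one, sub_eq_zero]
      induction j using Int.induction_on with
      | zero => rw [hτ0, map_one]
      | succ i ih => rw [hτadd, map_mul, ih, hτ1, hone', one_mul]
      | pred i ih =>
        have h := congrArg (Ideal.Quotient.mk Q) (hτadd (-(i : ℤ) - 1) 1)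
        rw [sub_add_cancel, map_mul, ih, hτ1, hone', mul_one] at h
        exact h.symm
    let g : GrLC.deg0 𝒜 →+* R ⧸ Q := (Ideal.Quotient.mk Q).comp (GrLC.deg0 𝒜).subtype
    have hpow : ∀ {n : ℤ} (r : R), r ∈ 𝒜 n → ∃ c : GrLC.deg0 𝒜,
        (c : R) = r ^ N * τ (-n) ∧ g c = Ideal.Quotient.mk Q r ^ N := by
      intro n r hr
      have hm : r ^ N ∈ 𝒜 ((N : ℤ) * n) := by
        have := SetLike.pow_mem_graded N hr
        rwa [nsmul_eq_mul] at this
      refine ⟨⟨r ^ N * τ (-n), hcmem rfl _ hm⟩, rfl, ?_⟩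
      show Ideal.Quotient.mk Q (r ^ N * τ (-n)) = _
      rw [map_mul, map_pow, show Ideal.Quotient.mk Q (τ (-n)) = 1 from
        (map_one (Ideal.Quotient.mk Q)) ▸ Ideal.Quotient.eq.mpr (hτQ _), mul_one]
    haveI : IsDomain (R ⧸ Q) := inferInstance
    have hint : g.IsIntegral := by
      intro z
      obtain ⟨r, rfl⟩ := Ideal.Quotient.mk_surjective z
      induction r using DirectSum.Decomposition.inductionOn 𝒜 with
      | zero => rw [map_zero]; exact g.isIntegralElem_zero
      | @homogeneous n r =>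
        obtain ⟨c, -, hc⟩ := hpow (r : R) r.2
        exact ⟨Polynomial.X ^ N - Polynomial.C c, Polynomial.monic_X_pow_sub_C c hN.ne', by simp [hc]⟩
      | add a b ha hb => rw [map_add]; exact RingHom.IsIntegralElem.add g ha hb
    have hg0 : ∀ c : GrLC.deg0 𝒜, c ∈ IsLocalRing.maximalIdeal _ → g c = 0 := by
      intro c hc
      letI := g.toAlgebra
      haveI : Algebra.IsIntegral (GrLC.deg0 𝒜) (R ⧸ Q) := ⟨hint⟩
      haveI : (⊥ : Ideal (R ⧸ Q)).IsMaximal := by
        letI := Ideal.Quotient.field Q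
        exact Ideal.bot_isMaximal
      have hmax := Ideal.isMaximal_comap_of_isIntegral_of_isMaximal (R := GrLC.deg0 𝒜) (⊥ : Ideal (R ⧸ Q))
      rw [← IsLocalRing.eq_maximalIdeal hmax] at hc
      exact hc
    refine (hPmax.eq_of_le hQ.ne_top ?_).symm
    intro r hr
    rw [← Ideal.Quotient.eq_zero_iff_mem]
    -- compare `r` with its degree-zero representative
    have key : ∀ x : R, ∃ c : GrLC.deg0 𝒜, g c = Ideal.Quotient.mk Q x ∧
        IsLocalRing.residue _ c = (fst.comp ψ) x := by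
      intro x
      induction x using DirectSum.Decomposition.inductionOn 𝒜 with
      | zero => exact ⟨0, by simp, by simp⟩
      | @homogeneous n r =>
        by_cases hn : (N : ℤ) ∣ n
        · obtain ⟨j, rfl⟩ := hn
          refine ⟨⟨(r : R) * τ (-j), hcmem rfl r r.2⟩, ?_, ?_⟩
          · show Ideal.Quotient.mk Q ((r : R) * τ (-j)) = _
            rw [map_mul, show Ideal.Quotient.mk Q (τ (-j)) = 1 from
              (map_one (Ideal.Quotient.mk Q)) ▸ Ideal.Quotient.eq.mpr (hτQ _), mul_one]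
          · rw [RingHom.comp_apply, hψ, hfstf rfl]
        · refine ⟨0, ?_, by rw [RingHom.comp_apply, hψ, hf0 hn]; simp⟩
          obtain ⟨c, hc1, hc2⟩ := hpow (r : R) r.2
          have hcm : c ∈ IsLocalRing.maximalIdeal _ := by
            rw [IsLocalRing.mem_maximalIdeal, mem_nonunits_iff]
            intro hu
            have hu' : IsUnit ((r : R) ^ N * τ (-n)) := hc1 ▸ hu.map (GrLC.deg0 𝒜).subtype
            exact hnonunit hn r r.2 ((isUnit_pow_iff hN.ne').mp (isUnit_of_mul_isUnit_left hu'))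
          rw [hg0 c hcm, eq_comm, pow_eq_zero_iff hN.ne'] at hc2
          rw [map_zero, hc2]
      | add a b ha hb =>
        obtain ⟨ca, hca, hca'⟩ := ha
        obtain ⟨cb, hcb, hcb'⟩ := hb
        exact ⟨ca + cb, by simp [hca, hcb], by simp [hca', hcb']⟩
    obtain ⟨c, hc1, hc2⟩ := key r
    rw [← hc1]
    refine hg0 c ?_
    rw [hP, RingHom.mem_ker] at hr
    rwa [hr, IsLocalRing.residue_eq_zero_iff] at hc2
  -- conclude
  set J := Ideal.span {t - 1} with hJ
  set L := Localization.AtPrime P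
  haveI : IsRegularLocalRing L := hreg P
  have hxm : algebraMap R L (t - 1) ∈ IsLocalRing.maximalIdeal L :=
    (IsLocalization.AtPrime.to_map_mem_maximal_iff L P _).mpr htP
  have hx2 : algebraMap R L (t - 1) ∉ IsLocalRing.maximalIdeal L ^ 2 := by
    rw [← Localization.AtPrime.map_eq_maximalIdeal, ← Ideal.map_pow,
      IsLocalization.algebraMap_mem_map_algebraMap_iff P.primeCompl]
    rintro ⟨s, hs, hst⟩
    have h := hPsq hst
    rw [RingHom.mem_ker, map_mul, hψt] at h
    refine hs ?_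
    show s ∈ P
    rw [hP, RingHom.mem_ker, RingHom.comp_apply]
    have h' := congrArg TrivSqZeroExt.snd h
    simpa [fst, DualNumber.snd_mul] using h'
  have hA := CommAlgDim.isRegularLocalRing_quotient_singleton hxm hx2
  -- `R ⧸ J` is already local, so it agrees with its localization
  let φ : R ⧸ J →+* L ⧸ Ideal.span {algebraMap R L (t - 1)} :=
    Ideal.quotientMap _ (algebraMap R L) (by
      rw [hJ, Ideal.span_singleton_le_iff_mem, Ideal.mem_comap]
      exact Ideal.mem_span_singleton_self _)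
  have hinv : ∀ s : R, s ∉ P → IsUnit (Ideal.Quotient.mk J s) := by
    intro s hs
    by_contra hu
    obtain ⟨M, hM, hsM⟩ := exists_max_ideal_of_mem_nonunits hu
    haveI := Ideal.comap_isMaximal_of_surjective (Ideal.Quotient.mk J) Ideal.Quotient.mk_surjective (K := M)
    have hMP := honly (M.comap (Ideal.Quotient.mk J)) this (by
      rw [Ideal.mem_comap, Ideal.Quotient.eq_zero_iff_mem.mpr (Ideal.mem_span_singleton_self _)]
      exact M.zero_mem)
    exact hs (hMP ▸ hsM)
  have hmapJ : Ideal.span {algebraMap R L (t - 1)} = J.map (algebraMap R L) := by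
    rw [hJ, Ideal.map_span, Set.image_singleton]
  have hbij : Function.Bijective φ := by
    constructor
    · rw [injective_iff_map_eq_zero]
      intro z hz
      obtain ⟨r, rfl⟩ := Ideal.Quotient.mk_surjective z
      rw [Ideal.quotientMap_mk, Ideal.Quotient.eq_zero_iff_mem, hmapJ,
        IsLocalization.algebraMap_mem_map_algebraMap_iff P.primeCompl] at hz
      obtain ⟨s, hs, hsr⟩ := hz
      rw [← Ideal.Quotient.eq_zero_iff_mem, map_mul] at hsr
      exact (hinv s hs).mul_right_eq_zero.mp hsr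
    · intro z
      obtain ⟨w, rfl⟩ := Ideal.Quotient.mk_surjective z
      obtain ⟨r, s, rfl⟩ := IsLocalization.exists_mk'_eq P.primeCompl w
      obtain ⟨u, hu⟩ := (hinv s s.2)
      refine ⟨Ideal.Quotient.mk J r * ↑u⁻¹, ?_⟩
      have h1 : φ ↑u * φ ↑u⁻¹ = 1 := by rw [← map_mul, Units.mul_inv, map_one]
      have h2 : Ideal.Quotient.mk (Ideal.span {algebraMap R L (t - 1)}) (IsLocalization.mk' L r s) * φ ↑u =
          φ (Ideal.Quotient.mk J r) := by
        rw [hu, Ideal.quotientMap_mk, Ideal.quotientMap_mk, ← map_mul, IsLocalization.mk'_spec]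
      rw [map_mul, ← h2, mul_assoc, h1, mul_one]
  exact IsRegularLocalRing.of_ringEquiv (RingEquiv.ofBijective φ hbij).symm

end Groth.Agent.UnitDegLib
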